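import Groth.Agent.LieKolchin.Basic
import Groth.Agent.S3268

/-!
# Connected solvable groups are trigonalizable
-/

set_option autoImplicit false
set_option linter.unusedSectionVars false

universe u v
open TensorProduct WithConv Groth.Agent.Comod
noncomputable section

namespace Groth.Agent.LieKolchin

variable {k : Type u} [Field k] [IsAlgClosed k] {A : Type v} [CommRing A] [HopfAlgebra k A]
  [Algebra.FiniteType k A] [IsReduced A]

local notation "G" => WithConv (A →ₐ[k] k)

/-- The rational points detect functions. -/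
lemma eq_zero_of_forall_point (a : A) (h : ∀ g : G, g.ofConv a = 0) : a = 0 := by
  have : IsJacobsonRing A := isJacobsonRing_of_finiteType (A := k)
  have hmem : a ∈ (⊥ : Ideal A).jacobson := Submodule.mem_sInf.2 fun M hM => by
    have := hM.2
    obtain ⟨g, hg⟩ := Groth.Agent.HopfDomain.exists_point (k := k) M
    rw [← hg]; exact h g
  rw [IsJacobsonRing.out inferInstance (I := (⊥ : Ideal A))
    (fun x hx => by obtain ⟨n, hn⟩ := hx; exact IsNilpotent.eq_zero ⟨n, hn⟩)] at hmem
  exact hmem

lemma isSubcomod_of_rho {V : Type v} [AddCommGroup V] [Module k V] [HopfRep.Comod k A V] (W : Submodule k V)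
    (h : ∀ (g : G), ∀ w ∈ W, rho k A V g w ∈ W) : HopfRep.IsSubcomod (k := k) (A := A) W := by
  intro w hw
  refine (mem_range_rTensor_iff W _).2 fun f => ?_
  refine (Subspace.forall_mem_dualAnnihilator_apply_eq_zero_iff W _).1 fun φ hφ => ?_
  rw [← cR_cL]
  have : cL φ (HopfRep.Comod.coact (k := k) (A := A) w) = 0 := eq_zero_of_forall_point _ fun g =>
    (apply_cL_coact (toConv g.ofConv.toLinearMap) φ w).trans
      ((Submodule.mem_dualAnnihilator φ).1 hφ _ (h g w hw))
  rw [this, map_zero]

theorem isTrigonalizable (hconn : ∀ e : A, IsIdempotentElem e → e = 0 ∨ e = 1)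
    [Group.IsSolvable G] : HopfRep.IsTrigonalizable k A := by
  intro V _ _ _ hfin hV
  haveI : IsDomain A := Groth.Agent.HopfDomain.isDomain (k := k) hconn
  haveI := hV.1
  obtain ⟨n, hn⟩ := (inferInstance : Group.IsSolvable (⊤ : Subgroup G)).solvable
  obtain ⟨v, -, hv0, hv⟩ := exists_eigenvector (V := V) n (⊤ : Subgroup G)
    (by rw [Subgroup.coe_top]; exact irr_of_isDomain_points eq_zero_of_forall_point) hn ⊤
    top_ne_bot (fun _ _ _ _ => trivial)
  have hsub : HopfRep.IsSubcomod (k := k) (A := A) (k ∙ v) := isSubcomod_of_rho _ fun g w hw => by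
    obtain ⟨b, rfl⟩ := Submodule.mem_span_singleton.1 hw
    obtain ⟨c, hc⟩ := hv g trivial
    rw [map_smul, hc]
    exact Submodule.smul_mem _ _ (Submodule.smul_mem _ _ (Submodule.mem_span_singleton_self v))
  rcases hV.2 _ hsub with h | h
  · exact absurd (Submodule.span_singleton_eq_bot.1 h) hv0
  · rw [← finrank_top (R := k) (M := V), ← h, finrank_span_singleton hv0]

/-- Commutators of points act unipotently. -/
theorem isNilpotent_rho_sub_one (hconn : ∀ e : A, IsIdempotentElem e → e = 0 ∨ e = 1)
    [Group.IsSolvable G] (g : G) (hg : g ∈ commutator G) (V : Type v) [AddCommGroup V] [Module k V]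
    [HopfRep.Comod k A V] [Module.Finite k V] : IsNilpotent (rho k A V g - 1) := by
  obtain ⟨F, hmono, hsub, hrank⟩ := Groth.Agent.S3268.result k A (isTrigonalizable hconn) V
  have hst : ∀ (x : G) i, ∀ w ∈ F i, rho k A V x w ∈ F i := fun x i w hw => by
    obtain ⟨t, ht⟩ := hsub i w hw
    rw [rho_apply]
    show cR _ (HopfRep.Comod.coact (k := k) (A := A) w) ∈ F i
    rw [← ht, cR_rTensor]
    exact (cR _ t).2
  set N := Module.finrank k V with hN
  have hstep : ∀ i, i < N → ∀ w ∈ F (i + 1), rho k A V g w - w ∈ F i := by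
    intro i hi
    obtain ⟨v, hv, hvF⟩ : ∃ v ∈ F (i + 1), v ∉ F i := by
      by_contra h
      push Not at h
      have h' := Submodule.finrank_mono (show F (i + 1) ≤ F i from h)
      rw [hrank _ hi, hrank _ hi.le] at h'
      omega
    have hsplit : ∀ w ∈ F (i + 1), ∃ c : k, w - c • v ∈ F i := by
      have hle : F i ⊔ k ∙ v ≤ F (i + 1) := sup_le (hmono i.le_succ) ((Submodule.span_singleton_le_iff_mem _ _).2 hv)
      have heq : F i ⊔ k ∙ v = F (i + 1) := by
        refine Submodule.eq_of_le_of_finrank_le hle ?_
        have hlt : F i < F i ⊔ k ∙ v := lt_of_le_of_ne le_sup_left fun h =>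
          hvF (h.ge (Submodule.mem_sup_right (Submodule.mem_span_singleton_self v)))
        have h' := Submodule.finrank_lt_finrank_of_lt hlt
        rw [hrank _ hi.le] at h'
        rw [hrank _ hi]
        omega
      intro w hw
      rw [← heq] at hw
      obtain ⟨a, ha, b, hb, rfl⟩ := Submodule.mem_sup.1 hw
      obtain ⟨c, rfl⟩ := Submodule.mem_span_singleton.1 hb
      exact ⟨c, by rwa [add_sub_cancel_right]⟩
    let K : Subgroup G :=
      { carrier := {x | ∀ w ∈ F (i + 1), rho k A V x w - w ∈ F i}
        one_mem' := fun w hw => by simp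
        mul_mem' := fun {x y} hx hy w hw => by
          rw [map_mul, Module.End.mul_apply]
          have h1 := add_mem (hx _ (hst y (i + 1) w hw)) (hy w hw)
          rwa [sub_add_sub_cancel] at h1
        inv_mem' := fun {x} hx w hw => by
          have h1 := neg_mem (hx _ (hst x⁻¹ (i + 1) w hw))
          have h2 : rho k A V x (rho k A V x⁻¹ w) = w := by
            rw [← Module.End.mul_apply, ← map_mul, mul_inv_cancel, map_one, Module.End.one_apply]
          rwa [neg_sub, h2] at h1 }
    have hle : commutator G ≤ K := by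
      rw [commutator_def]
      refine Subgroup.commutator_le.2 fun a _ b _ => ?_
      intro w hw
      obtain ⟨α, hα⟩ := hsplit _ (hst a (i + 1) v hv)
      obtain ⟨β, hβ⟩ := hsplit _ (hst b (i + 1) v hv)
      have hscal : ∀ (x : G) (γ : k), rho k A V x v - γ • v ∈ F i → ∀ w ∈ F (i + 1), rho k A V x w - γ • w ∈ F i := by
        intro x γ hx w hw
        obtain ⟨c, hc⟩ := hsplit w hw
        have h1 := add_mem (hst x i _ hc) ((F i).smul_mem c hx)
        have h2 := sub_mem h1 ((F i).smul_mem γ hc)
        convert h2 using 1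
        rw [map_sub, map_smul]
        module
      let w' := rho k A V (b * a)⁻¹ w
      have hw' : w' ∈ F (i + 1) := hst _ _ _ hw
      have hab : ∀ (x y : G) (p q : k), rho k A V x v - p • v ∈ F i → rho k A V y v - q • v ∈ F i →
          rho k A V (x * y) w' - (p * q) • w' ∈ F i := by
        intro x y p q hx hy
        have h1 := hscal x p hx _ (hst y _ _ hw')
        have h2 := (F i).smul_mem p (hscal y q hy _ hw')
        have h3 := add_mem h1 h2
        convert h3 using 1
        rw [map_mul, Module.End.mul_apply]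
        module
      have h1 := hab a b α β hα hβ
      have h2 := hab b a β α hβ hα
      rw [mul_comm β α] at h2
      have h3 := sub_mem h1 h2
      rw [sub_sub_sub_cancel_right] at h3
      rw [commutatorElement_def]
      convert h3 using 2
      · show rho k A V (a * b * a⁻¹ * b⁻¹) w = rho k A V (a * b) (rho k A V (b * a)⁻¹ w)
        rw [← Module.End.mul_apply, ← map_mul, mul_inv_rev, mul_assoc (a * b)]
      · show w = rho k A V (b * a) (rho k A V (b * a)⁻¹ w)
        rw [← Module.End.mul_apply, ← map_mul, mul_inv_cancel, map_one, Module.End.one_apply]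
    exact hle hg
  have hF0 : F 0 = ⊥ := Submodule.finrank_eq_zero.1 (hrank 0 (Nat.zero_le _))
  have hFN : F N = ⊤ := Submodule.eq_top_of_finrank_eq (hrank N le_rfl)
  refine ⟨N, ?_⟩
  have hpow : ∀ j ≤ N, ∀ w, ((rho k A V g - 1) ^ j : Module.End k V) w ∈ F (N - j) := by
    intro j
    induction j with
    | zero => intro _ w; rw [Nat.sub_zero, hFN]; trivial
    | succ j ih =>
      intro hj w
      rw [pow_succ', Module.End.mul_apply, LinearMap.sub_apply, Module.End.one_apply]
      refine hstep (N - (j + 1)) (by omega) _ ?_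
      rw [show N - (j + 1) + 1 = N - j by omega]
      exact ih (by omega) w
  refine LinearMap.ext fun w => ?_
  have := hpow N le_rfl w
  rwa [Nat.sub_self, hF0, Submodule.mem_bot] at this

end Groth.Agent.LieKolchin
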