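import Groth.Agent.Comod.DualModule
import Groth.Agent.HopfDomain.Basic
import Mathlib.GroupTheory.Solvable
import Mathlib.RingTheory.Jacobson.Ring
import Mathlib.LinearAlgebra.Eigenspace.Triangularizable
import Mathlib.RingTheory.HopfAlgebra.Convolution

/-!
# The theorem of Lie and Kolchin

A solvable subgroup of the rational points which is irreducible for the functions of the group has a common
eigenvector in each stable non-zero subspace of a comodule.
-/

set_option autoImplicit false
set_option linter.unusedSectionVars false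

universe u v
open TensorProduct WithConv Groth.Agent.Comod
noncomputable section

namespace Groth.Agent.LieKolchin

variable {k : Type u} [Field k] {A : Type v} [CommRing A] [HopfAlgebra k A]

local notation "G" => WithConv (A →ₐ[k] k)

/-- The points in `S` are irreducible for the functions in `A`. -/
def Irr (S : Set G) : Prop :=
  ∀ f f' : A, (∀ g ∈ S, g.ofConv f * g.ofConv f' = 0) → (∀ g ∈ S, g.ofConv f = 0) ∨ ∀ g ∈ S, g.ofConv f' = 0

/-- Closed sets of points. -/
def IsCl (Z : Set G) : Prop := ∀ g, g ∉ Z → ∃ f : A, g.ofConv f ≠ 0 ∧ ∀ h ∈ Z, h.ofConv f = 0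

lemma isCl_empty : IsCl (∅ : Set G) := fun g _ =>
  ⟨1, by simp, fun h hh => absurd hh (Set.notMem_empty h)⟩

lemma IsCl.union {Z Z' : Set G} (hZ : IsCl Z) (hZ' : IsCl Z') : IsCl (Z ∪ Z') := fun g hg => by
  obtain ⟨f, hf, hf0⟩ := hZ g fun h => hg (Or.inl h)
  obtain ⟨f', hf', hf0'⟩ := hZ' g fun h => hg (Or.inr h)
  refine ⟨f * f', by simp [hf, hf'], ?_⟩
  rintro h (hh | hh) <;> simp [hf0, hf0', hh]

lemma isCl_biUnion {ι : Type*} (t : Finset ι) (Z : ι → Set G) (hZ : ∀ i ∈ t, IsCl (Z i)) : IsCl (⋃ i ∈ t, Z i) := by
  classical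
  induction t using Finset.induction_on with
  | empty => simpa using isCl_empty
  | insert a t ha ih =>
    rw [Finset.set_biUnion_insert]
    exact (hZ a (Finset.mem_insert_self a t)).union (ih fun i hi => hZ i (Finset.mem_insert_of_mem hi))

/-- An irreducible set covered by finitely many closed sets lies in one of them. -/
lemma Irr.exists_subset {ι : Type*} {S : Set G} (hS : Irr S) (hne : S.Nonempty) (t : Finset ι) (Z : ι → Set G)
    (hZ : ∀ i ∈ t, IsCl (Z i)) (hcov : S ⊆ ⋃ i ∈ t, Z i) : ∃ i ∈ t, S ⊆ Z i := by
  classical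
  induction t using Finset.induction_on with
  | empty =>
    obtain ⟨g, hg⟩ := hne
    simpa using hcov hg
  | insert a t ha ih =>
    by_cases h : S ⊆ Z a
    · exact ⟨a, Finset.mem_insert_self a t, h⟩
    obtain ⟨g₀, hg₀, hga⟩ := Set.not_subset.1 h
    obtain ⟨f, hf, hf0⟩ := hZ a (Finset.mem_insert_self a t) g₀ hga
    obtain ⟨i, hi, hsub⟩ := ih (fun i hi => hZ i (Finset.mem_insert_of_mem hi)) fun g hg => by
      by_contra hg'
      obtain ⟨f', hf', hf0'⟩ := isCl_biUnion t Z (fun i hi => hZ i (Finset.mem_insert_of_mem hi)) g hg'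
      rcases hS f f' (fun x hx => by
        have := hcov hx
        rw [Finset.set_biUnion_insert] at this
        rcases this with hx' | hx'
        · rw [hf0 x hx', zero_mul]
        · rw [hf0' x hx', mul_zero]) with h1 | h1
      · exact hf (h1 g₀ hg₀)
      · exact hf' (h1 g hg)
    exact ⟨i, Finset.mem_insert_of_mem hi, hsub⟩

/-- A map of the points given by functions. -/
def Reg (u : G → G) : Prop := ∀ f : A, ∃ φ : A, ∀ g, (u g).ofConv f = g.ofConv φ

lemma reg_id : Reg (id : G → G) := fun f => ⟨f, fun _ => rfl⟩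

lemma reg_const (c : G) : Reg (fun _ => c) := fun f =>
  ⟨algebraMap k A (c.ofConv f), fun g => by rw [AlgHom.commutes, Algebra.algebraMap_self, RingHom.id_apply]⟩

lemma Reg.mul {u w : G → G} (hu : Reg u) (hw : Reg w) : Reg (fun g => u g * w g) := fun f => by
  choose φ hφ using hu
  choose ψ hψ using hw
  suffices h : ∀ t : A ⊗[k] A, ∃ x : A, ∀ g, Algebra.TensorProduct.lift (u g).ofConv (w g).ofConv
      (fun _ _ => Commute.all _ _) t = g.ofConv x by
    obtain ⟨x, hx⟩ := h (CoalgebraStruct.comul (R := k) f)
    exact ⟨x, fun g => (AlgHom.convMul_apply (u g) (w g) f).trans (hx g)⟩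
  intro t
  induction t using TensorProduct.induction_on with
  | zero => exact ⟨0, fun g => by simp⟩
  | tmul a b => exact ⟨φ a * ψ b, fun g => by simp [hφ, hψ]⟩
  | add a b ha hb =>
    obtain ⟨x, hx⟩ := ha
    obtain ⟨y, hy⟩ := hb
    exact ⟨x + y, fun g => by rw [map_add, map_add, hx, hy]⟩

lemma Reg.inv {u : G → G} (hu : Reg u) : Reg (fun g => (u g)⁻¹) := fun f => hu (HopfAlgebra.antipode k f)

lemma irr_of_isDomain_points (h : ∀ a : A, (∀ g : G, g.ofConv a = 0) → a = 0) [IsDomain A] :
    Irr (Set.univ : Set G) := fun f f' hff => by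
  have : f * f' = 0 := h _ fun g => by rw [map_mul]; exact hff g trivial
  rcases mul_eq_zero.1 this with rfl | rfl <;> simp

/-- The image of an irreducible set under a separately regular map is irreducible. -/
lemma Irr.image2 {S T : Set G} (hS : Irr S) (hT : Irr T) (m : G → G → G) (h1 : ∀ b, Reg (fun a => m a b))
    (h2 : ∀ a, Reg (m a)) : Irr (Set.image2 m S T) := by
  intro f f' hff
  by_contra hcon
  simp only [not_or, not_forall] at hcon
  obtain ⟨⟨_, ⟨a, ha, b, hb, rfl⟩, hf⟩, _, ⟨a', ha', b', hb', rfl⟩, hf'⟩ := hcon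
  obtain ⟨φ, hφ⟩ := h1 b f
  obtain ⟨φ', hφ'⟩ := h1 b' f'
  rcases hS φ φ' (fun x hx => by
    rw [← hφ, ← hφ']
    obtain ⟨ψ, hψ⟩ := h2 x f
    obtain ⟨ψ', hψ'⟩ := h2 x f'
    rcases hT ψ ψ' (fun y hy => by rw [← hψ, ← hψ']; exact hff _ ⟨x, hx, y, hy, rfl⟩) with h | h
    · rw [hψ, h b hb, zero_mul]
    · rw [hψ', h b' hb', mul_zero]) with h | h
  · exact hf ((hφ a).trans (h a ha))
  · exact hf' ((hφ' a').trans (h a' ha'))

lemma irr_singleton (c : G) : Irr ({c} : Set G) := fun f f' h => by
  rcases mul_eq_zero.1 (h c rfl) with h' | h'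
  · exact Or.inl fun g hg => by rw [Set.mem_singleton_iff.1 hg]; exact h'
  · exact Or.inr fun g hg => by rw [Set.mem_singleton_iff.1 hg]; exact h'

lemma irr_iUnion {S : ℕ → Set G} (hmono : Monotone S) (hS : ∀ n, Irr (S n)) : Irr (⋃ n, S n) := fun f f' h => by
  by_contra hcon
  simp only [not_or, not_forall, Set.mem_iUnion] at hcon
  obtain ⟨⟨g, ⟨n, hn⟩, hg⟩, g', ⟨n', hn'⟩, hg'⟩ := hcon
  rcases hS (max n n') f f' (fun x hx => h x (Set.mem_iUnion.2 ⟨_, hx⟩)) with h1 | h1
  · exact hg (h1 g (hmono (le_max_left _ _) hn))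
  · exact hg' (h1 g' (hmono (le_max_right _ _) hn'))

/-- The derived group of an irreducible group is irreducible. -/
lemma irr_commutator {H : Subgroup G} (hH : Irr (H : Set G)) : Irr ((⁅H, H⁆ : Subgroup G) : Set G) := by
  let C : Set G := Set.image2 (fun a b => a * b * a⁻¹ * b⁻¹) H H
  have hC : Irr C := hH.image2 hH _
    (fun b => (((reg_id.mul (reg_const b)).mul reg_id.inv)).mul (reg_const b⁻¹))
    (fun a => (((reg_const a).mul reg_id).mul (reg_const a⁻¹)).mul reg_id.inv)
  let P : ℕ → Set G := fun n => Nat.rec {1} (fun _ S => Set.image2 (· * ·) S C) n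
  have hP : ∀ n, Irr (P n) := fun n => by
    induction n with
    | zero => exact irr_singleton 1
    | succ n ih =>
      exact ih.image2 hC _ (fun b => reg_id.mul (reg_const b)) (fun a => (reg_const a).mul reg_id)
  have h1C : (1 : G) ∈ C := ⟨1, H.one_mem, 1, H.one_mem, by simp⟩
  have hmono : Monotone P := monotone_nat_of_le_succ fun n x hx => ⟨x, hx, 1, h1C, mul_one x⟩
  suffices h : ((⁅H, H⁆ : Subgroup G) : Set G) = ⋃ n, P n from h ▸ irr_iUnion hmono hP
  have hmul : ∀ n m x, x ∈ P n → ∀ y ∈ P m, x * y ∈ P (n + m) := fun n m => by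
    induction m with
    | zero => intro x hx y hy; rw [Set.mem_singleton_iff.1 hy, mul_one]; exact hx
    | succ m ih =>
      rintro x hx _ ⟨y, hy, c, hc, rfl⟩
      exact ⟨x * y, ih x hx y hy, c, hc, by simp [mul_assoc]⟩
  have hone : ∀ c ∈ C, c ∈ P 1 := fun c hc => ⟨1, rfl, c, hc, one_mul c⟩
  refine Set.Subset.antisymm ?_ (Set.iUnion_subset fun n => ?_)
  · intro x hx
    induction hx using Subgroup.closure_induction with
    | mem x hx =>
      obtain ⟨a, ha, b, hb, rfl⟩ := hx
      exact Set.mem_iUnion.2 ⟨1, hone _ ⟨a, ha, b, hb, (commutatorElement_def a b).symm⟩⟩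
    | one => exact Set.mem_iUnion.2 ⟨0, rfl⟩
    | mul x y _ _ hx hy =>
      obtain ⟨n, hn⟩ := Set.mem_iUnion.1 hx
      obtain ⟨m, hm⟩ := Set.mem_iUnion.1 hy
      exact Set.mem_iUnion.2 ⟨n + m, hmul n m x hn y hm⟩
    | inv x _ hx =>
      obtain ⟨n, hn⟩ := Set.mem_iUnion.1 hx
      suffices h : ∀ n x, x ∈ P n → x⁻¹ ∈ P n from Set.mem_iUnion.2 ⟨n, h n x hn⟩
      intro n
      induction n with
      | zero => intro x hx; rw [Set.mem_singleton_iff.1 hx, inv_one]; rfl
      | succ n ih =>
        rintro _ ⟨y, hy, _, ⟨a, ha, b, hb, rfl⟩, rfl⟩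
        have := hmul 1 n _ (hone _ ⟨b, hb, a, ha, rfl⟩) _ (ih y hy)
        rw [Nat.add_comm] at this
        convert this using 1
        group
  · induction n with
    | zero => exact Set.singleton_subset_iff.2 (Subgroup.one_mem _)
    | succ n ih =>
      rintro _ ⟨x, hx, _, ⟨a, ha, b, hb, rfl⟩, rfl⟩
      exact Subgroup.mul_mem _ (ih hx)
        (by show a * b * a⁻¹ * b⁻¹ ∈ _; rw [← commutatorElement_def]; exact Subgroup.commutator_mem_commutator ha hb)

section Act

variable (k A)
variable (V : Type v) [AddCommGroup V] [Module k V] [HopfRep.Comod k A V]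

/-- The action of the points, multiplicatively. -/
def rho : G →* Module.End k V where
  toFun g := dact k A V (toConv g.ofConv.toLinearMap)
  map_one' := by
    rw [show toConv (1 : G).ofConv.toLinearMap = (1 : CDual k A) from AlgHom.toLinearMap_convOne, map_one]
  map_mul' g h := by
    rw [show toConv (g * h).ofConv.toLinearMap = (toConv g.ofConv.toLinearMap * toConv h.ofConv.toLinearMap : CDual k A)
      from AlgHom.toLinearMap_convMul g h, map_mul]

variable {k A V}

lemma rho_apply (g : G) (v : V) : rho k A V g v = HopfRep.Comod.act k A V g.ofConv v := rfl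

lemma rho_inv_apply (g : G) (v : V) : rho k A V g⁻¹ (rho k A V g v) = v := by
  rw [← Module.End.mul_apply, ← map_mul, inv_mul_cancel, map_one, Module.End.one_apply]

/-- Where a linear map kills a moved vector is closed. -/
lemma isCl_zero {W : Type v} [AddCommGroup W] [Module k W] (L : V →ₗ[k] W) (v : V) :
    IsCl {g : G | L (rho k A V g v) = 0} := fun g hg => by
  obtain ⟨φ, hφ⟩ : ∃ φ : W →ₗ[k] k, φ (L (rho k A V g v)) ≠ 0 := by
    by_contra h
    exact hg ((Module.forall_dual_apply_eq_zero_iff k _).1 (not_exists_not.1 h))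
  have e : ∀ h : G, h.ofConv (cL (φ ∘ₗ L) (HopfRep.Comod.coact (k := k) (A := A) v)) = φ (L (rho k A V h v)) :=
    fun h => apply_cL_coact (toConv h.ofConv.toLinearMap) (φ ∘ₗ L) v
  exact ⟨_, by rw [e]; exact hφ, fun h hh => by rw [e, show L (rho k A V h v) = 0 from hh, map_zero]⟩

/-- Spans of orbits are stable. -/
lemma span_orbit_stable {H : Subgroup G} (v : V) {g : G} (hg : g ∈ H) :
    ∀ w ∈ Submodule.span k ((fun g => rho k A V g v) '' (H : Set G)),
      rho k A V g w ∈ Submodule.span k ((fun g => rho k A V g v) '' (H : Set G)) := fun w hw => by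
  induction hw using Submodule.span_induction with
  | mem x hx =>
    obtain ⟨h, hh, rfl⟩ := hx
    exact Submodule.subset_span ⟨g * h, H.mul_mem hg hh, by simp only [map_mul]; rfl⟩
  | zero => rw [map_zero]; exact zero_mem _
  | add x y _ _ hx hy => rw [map_add]; exact add_mem hx hy
  | smul c x _ hx => rw [map_smul]; exact Submodule.smul_mem _ _ hx

variable [IsAlgClosed k] [Module.Finite k V]

/-- Kolchin: a common eigenvector. -/
theorem exists_eigenvector (n : ℕ) : ∀ H : Subgroup G, Irr (H : Set G) → derivedSeries H n = ⊥ →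
    ∀ W : Submodule k V, W ≠ ⊥ → (∀ g ∈ H, ∀ w ∈ W, rho k A V g w ∈ W) →
      ∃ v ∈ W, v ≠ 0 ∧ ∀ g ∈ H, ∃ c : k, rho k A V g v = c • v := by
  induction n with
  | zero =>
    intro H _ hn W hW _
    obtain ⟨v, hv, hv0⟩ := Submodule.exists_mem_ne_zero_of_ne_bot hW
    refine ⟨v, hv, hv0, fun g hg => ⟨1, ?_⟩⟩
    have : (⟨g, hg⟩ : H) ∈ (⊤ : Subgroup H) := trivial
    rw [← derivedSeries_zero H, hn, Subgroup.mem_bot] at this
    rw [show g = 1 from congrArg Subtype.val this, map_one, one_smul, Module.End.one_apply]
  | succ n ih =>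
    intro H hH hn W hW hst
    classical
    -- a minimal stable subspace
    have key : ∀ d, ∀ W : Submodule k V, Module.finrank k W ≤ d → W ≠ ⊥ → (∀ g ∈ H, ∀ w ∈ W, rho k A V g w ∈ W) →
        ∃ v ∈ W, v ≠ 0 ∧ ∀ g ∈ H, ∃ c : k, rho k A V g v = c • v := by
      intro d
      induction d with
      | zero => intro W hd hW _; exact absurd (Submodule.finrank_eq_zero.1 (Nat.le_zero.1 hd)) hW
      | succ d ihd =>
        intro W hd hW hst
        by_cases hmin : ∃ W' : Submodule k V, W' < W ∧ W' ≠ ⊥ ∧ ∀ g ∈ H, ∀ w ∈ W', rho k A V g w ∈ W'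
        · obtain ⟨W', hlt, hne, hst'⟩ := hmin
          obtain ⟨v, hv, hv0, hv'⟩ := ihd W' (by have := Submodule.finrank_lt_finrank_of_lt hlt; omega) hne hst'
          exact ⟨v, hlt.le hv, hv0, hv'⟩
        push Not at hmin
        have hfull : ∀ W' : Submodule k V, W' ≤ W → W' ≠ ⊥ → (∀ g ∈ H, ∀ w ∈ W', rho k A V g w ∈ W') → W' = W :=
          fun W' hle hne hs => by
            by_contra h
            obtain ⟨g, hg, w, hw, hgw⟩ := hmin W' (lt_of_le_of_ne hle h) hne
            exact hgw (hs g hg w hw)
        have hder : derivedSeries (⁅H, H⁆ : Subgroup G) n = ⊥ := by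
          refine eq_bot_iff.2 fun x hx => ?_
          have hle : (⁅H, H⁆ : Subgroup G) ≤ H :=
            (Subgroup.commutator_le).2 fun a ha b hb => by
              rw [commutatorElement_def]
              exact H.mul_mem (H.mul_mem (H.mul_mem ha hb) (H.inv_mem ha)) (H.inv_mem hb)
          have hmap : ∀ m, (derivedSeries (⁅H, H⁆ : Subgroup G) m).map (Subgroup.subtype _) ≤
              (derivedSeries H (m + 1)).map H.subtype := fun m => by
            induction m with
            | zero =>
              rw [derivedSeries_zero, derivedSeries_succ, derivedSeries_zero, Subgroup.map_commutator,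
                ← MonoidHom.range_eq_map, ← MonoidHom.range_eq_map, Subgroup.range_subtype, Subgroup.range_subtype]
            | succ m ihm =>
              rw [derivedSeries_succ, derivedSeries_succ H (m + 1), Subgroup.map_commutator, Subgroup.map_commutator]
              exact Subgroup.commutator_mono ihm ihm
          have := hmap n ⟨x, hx, rfl⟩
          rw [hn, Subgroup.map_bot, Subgroup.mem_bot] at this
          exact Subgroup.mem_bot.2 (Subtype.ext this)
        have hH'le : ∀ g ∈ (⁅H, H⁆ : Subgroup G), g ∈ H :=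
          fun g hg => (Subgroup.commutator_le_self H) hg
        obtain ⟨v, hv, hv0, hvc⟩ := ih _ (irr_commutator hH) hder W hW
          (fun g hg => hst g (hH'le g hg))
        have hscal : ∀ h ∈ (⁅H, H⁆ : Subgroup G), ∃ c : k, ∀ w ∈ W, rho k A V h w = c • w := by
          intro h hh
          have hfin : {c : k | Module.End.HasEigenvalue (rho k A V h) c}.Finite :=
            Module.End.finite_hasEigenvalue _
          have hcov : (H : Set G) ⊆ ⋃ c ∈ hfin.toFinset,
              {g : G | (rho k A V h - c • LinearMap.id : Module.End k V) (rho k A V g v) = 0} := by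
            intro g hg
            have hconj : g⁻¹ * h * g ∈ (⁅H, H⁆ : Subgroup G) := by
              rw [show g⁻¹ * h * g = g⁻¹ * h * g⁻¹⁻¹ * h⁻¹ * h by group, ← commutatorElement_def]
              exact Subgroup.mul_mem _ (Subgroup.commutator_mem_commutator (H.inv_mem hg) (hH'le h hh)) hh
            obtain ⟨c, hc⟩ := hvc _ hconj
            have e : rho k A V h (rho k A V g v) = c • rho k A V g v := by
              rw [← map_smul, ← hc, ← Module.End.mul_apply, ← Module.End.mul_apply, ← map_mul, ← map_mul]
              congr 2; group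
            refine Set.mem_iUnion₂.2 ⟨c, ?_, by simp [e]⟩
            rw [Set.Finite.mem_toFinset]
            refine Module.End.hasEigenvalue_of_hasEigenvector (x := rho k A V g v)
              ⟨Module.End.mem_eigenspace_iff.2 e, fun h0 => hv0 ?_⟩
            rw [← rho_inv_apply g v, h0, map_zero]
          obtain ⟨c, -, hc⟩ := hH.exists_subset ⟨1, H.one_mem⟩ _ _ (fun c _ => isCl_zero _ v) hcov
          refine ⟨c, ?_⟩
          let U := Submodule.span k ((fun g => rho k A V g v) '' (H : Set G))
          have hUW : U = W := hfull U (Submodule.span_le.2 (by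
              rintro _ ⟨g, hg, rfl⟩; exact hst g hg v hv))
            (fun hU => hv0 (by
              have : v ∈ U := Submodule.subset_span ⟨1, H.one_mem, by simp⟩
              rw [hU] at this; exact (Submodule.mem_bot k).1 this))
            (fun g hg => span_orbit_stable v hg)
          intro w hw
          rw [← hUW] at hw
          induction hw using Submodule.span_induction with
          | mem x hx =>
            obtain ⟨g, hg, rfl⟩ := hx
            simpa [sub_eq_zero] using hc hg
          | zero => simp
          | add x y _ _ hx hy => rw [map_add, hx, hy, smul_add]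
          | smul b x _ hx => rw [map_smul, hx, smul_comm]
        -- the scalars are roots of unity
        let d := Module.finrank k W
        have hd0 : 0 < d := Nat.pos_of_ne_zero fun h => hW (Submodule.finrank_eq_zero.1 h)
        let δ : H →* k :=
          { toFun := fun g => LinearMap.det ((rho k A V g.1).restrict (hst g.1 g.2))
            map_one' := by
              rw [show ((rho k A V ((1 : H) : G)).restrict (hst _ (1 : H).2)) = LinearMap.id from
                LinearMap.ext fun w => Subtype.ext (by simp), LinearMap.det_id]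
            map_mul' := fun a b => by
              rw [← map_mul]
              congr 1
              exact LinearMap.ext fun w => Subtype.ext (by simp) }
        have htriv : ∀ h ∈ (⁅H, H⁆ : Subgroup G), ∃ c : k, c ^ d = 1 ∧ ∀ w ∈ W, rho k A V h w = c • w := by
          intro h hh
          obtain ⟨c, hc⟩ := hscal h hh
          refine ⟨c, ?_, hc⟩
          have h1 : ∀ x ∈ (⁅H, H⁆ : Subgroup G), ∀ hx : x ∈ H, δ ⟨x, hx⟩ = 1 := by
            intro x hx hxH
            have hmem : (⟨x, hxH⟩ : H) ∈ (⁅(⊤ : Subgroup H), ⊤⁆ : Subgroup H) := by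
              have e : (⁅(⊤ : Subgroup H), ⊤⁆ : Subgroup H).map H.subtype = ⁅H, H⁆ := by
                rw [Subgroup.map_commutator, ← MonoidHom.range_eq_map, Subgroup.range_subtype]
              rw [← e] at hx
              obtain ⟨y, hy, hyx⟩ := hx
              rwa [show (⟨x, hxH⟩ : H) = y from Subtype.ext hyx.symm]
            have hker : (⁅(⊤ : Subgroup H), ⊤⁆ : Subgroup H) ≤ δ.toHomUnits.ker :=
              Subgroup.commutator_le.2 fun a _ b _ => by
                rw [MonoidHom.mem_ker, commutatorElement_def]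
                simp only [map_mul, map_inv]
                rw [mul_comm (δ.toHomUnits a) (δ.toHomUnits b), mul_assoc (δ.toHomUnits b), mul_inv_cancel, mul_one,
                  mul_inv_cancel]
            have := hker hmem
            rw [MonoidHom.mem_ker] at this
            exact congrArg Units.val this
          have h2 := h1 h hh (hH'le h hh)
          rw [show δ ⟨h, hH'le h hh⟩ = c ^ d from by
            show LinearMap.det _ = _
            rw [show (rho k A V h).restrict (hst h (hH'le h hh)) = c • LinearMap.id from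
              LinearMap.ext fun w => Subtype.ext (by simpa using hc w w.2), LinearMap.det_smul, LinearMap.det_id,
              mul_one]] at h2
          exact h2
        have htriv' : ∀ h ∈ (⁅H, H⁆ : Subgroup G), ∀ w ∈ W, rho k A V h w = w := by
          intro h hh w hw
          obtain ⟨v₀, hv₀, hv₀0⟩ := Submodule.exists_mem_ne_zero_of_ne_bot hW
          have hcl : ∀ c : k, IsCl {g : G | rho k A V g v₀ = c • v₀} := fun c g hg => by
            obtain ⟨φ, hφ⟩ : ∃ φ : V →ₗ[k] k, φ (rho k A V g v₀) - φ (c • v₀) ≠ 0 := by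
              by_contra h
              exact hg (sub_eq_zero.1 ((Module.forall_dual_apply_eq_zero_iff k _).1 fun φ => by
                rw [map_sub]; exact not_exists_not.1 h φ))
            have e : ∀ x : G, x.ofConv (cL φ (HopfRep.Comod.coact (k := k) (A := A) v₀)) = φ (rho k A V x v₀) :=
              fun x => apply_cL_coact (toConv x.ofConv.toLinearMap) φ v₀
            refine ⟨cL φ (HopfRep.Comod.coact (k := k) (A := A) v₀) - algebraMap k A (φ (c • v₀)), ?_, ?_⟩
            · rw [map_sub, AlgHom.commutes, Algebra.algebraMap_self, RingHom.id_apply, e]; exact hφ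
            · intro x hx
              rw [map_sub, AlgHom.commutes, Algebra.algebraMap_self, RingHom.id_apply, e,
                show rho k A V x v₀ = c • v₀ from hx, sub_self]
          have hcov : ((⁅H, H⁆ : Subgroup G) : Set G) ⊆
              ⋃ c ∈ Polynomial.nthRootsFinset d (1 : k), {g : G | rho k A V g v₀ = c • v₀} := fun g hg => by
            obtain ⟨c, hc1, hc⟩ := htriv g hg
            exact Set.mem_iUnion₂.2 ⟨c, (Polynomial.mem_nthRootsFinset hd0 1).2 hc1, hc v₀ hv₀⟩
          obtain ⟨c, -, hc⟩ :=
            (irr_commutator hH).exists_subset ⟨1, Subgroup.one_mem _⟩ _ _ (fun c _ => hcl c) hcov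
          have h1 : rho k A V 1 v₀ = c • v₀ := hc (Subgroup.one_mem _)
          have h2 : rho k A V h v₀ = c • v₀ := hc hh
          obtain ⟨c', -, hc'⟩ := htriv h hh
          rw [map_one, Module.End.one_apply] at h1
          rw [hc' v₀ hv₀, ← h1] at h2
          have h3 : (c' - 1) • v₀ = 0 := by rw [sub_smul, one_smul, h2, sub_self]
          rw [hc' w hw, sub_eq_zero.1 ((smul_eq_zero.1 h3).resolve_right hv₀0), one_smul]
        obtain ⟨v₀, hv₀, hv₀0⟩ := Submodule.exists_mem_ne_zero_of_ne_bot hW
        refine ⟨v₀, hv₀, hv₀0, fun g hg => ?_⟩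
        let f : Module.End k W := (rho k A V g).restrict (hst g hg)
        haveI : Nontrivial W := Submodule.nontrivial_iff_ne_bot.2 hW
        obtain ⟨c, hc⟩ := Module.End.exists_eigenvalue f
        refine ⟨c, ?_⟩
        let U : Submodule k V := (f.eigenspace c).map W.subtype
        have hU : U = W := hfull U (Submodule.map_subtype_le W _)
          (fun h => hc (Submodule.map_injective_of_injective W.injective_subtype (h.trans (Submodule.map_bot _).symm)))
          (fun g' hg' => by
            rintro _ ⟨w, hw, rfl⟩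
            refine ⟨⟨rho k A V g' w, hst g' hg' w w.2⟩, ?_, rfl⟩
            rw [SetLike.mem_coe, Module.End.mem_eigenspace_iff] at hw ⊢
            refine Subtype.ext ?_
            have hw' : rho k A V g (w : V) = c • (w : V) := congrArg Subtype.val hw
            show rho k A V g (rho k A V g' w) = c • rho k A V g' w
            have hcm : rho k A V (g * g') (w : V) = rho k A V (g' * g) (w : V) := by
              rw [show g * g' = g * g' * g⁻¹ * g'⁻¹ * (g' * g) by group, map_mul, Module.End.mul_apply]
              refine htriv' _ ?_ _ (hst _ (H.mul_mem hg' hg) _ w.2)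
              rw [← commutatorElement_def]
              exact Subgroup.commutator_mem_commutator hg hg'
            rw [map_mul, map_mul, Module.End.mul_apply, Module.End.mul_apply, hw', map_smul] at hcm
            exact hcm)
        obtain ⟨w, hw, hwv⟩ : v₀ ∈ U := hU.symm ▸ hv₀
        have := congrArg Subtype.val (Module.End.mem_eigenspace_iff.1 hw)
        rw [← hwv]
        exact this
    exact key _ W le_rfl hW hst

end Act

end Groth.Agent.LieKolchin
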